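import Mathlib

/-!
Orders of `SL`, `PSL`, `PGL`; transvection generation, perfectness and simplicity of `SL_n`, `PSL_n`.
-/

set_option autoImplicit false

namespace Cfsg.Agent.Classical

open Matrix

variable {ι : Type*} [Fintype ι] [DecidableEq ι] {F : Type*} [Field F]

/-- The elementary transvection in `SL`. -/
abbrev tv {i j : ι} (hij : i ≠ j) (c : F) : SpecialLinearGroup ι F :=
  SpecialLinearGroup.transvection hij c

theorem diag2n_decompose {i j : ι} (hij : i ≠ j) {c : F} (hc : c ≠ 0) :
    SpecialLinearGroup.diag2n hij c hc =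
      tv hij c * tv hij.symm (-c⁻¹) * tv hij c * tv hij (-1) * tv hij.symm 1 * tv hij (-1) := by
  apply SpecialLinearGroup.coeMonoidHom_injective
  simp only [map_mul, SpecialLinearGroup.coeMonoidHom_apply, SpecialLinearGroup.diag2n_coe, tv,
    SpecialLinearGroup.transvection_coe]
  simp only [mul_add, add_mul, one_mul, mul_one, Matrix.single_mul_single_same,
    Matrix.single_mul_single_of_ne (h := hij), Matrix.single_mul_single_of_ne (h := hij.symm),
    Matrix.add_apply, add_zero, zero_add]
  ext k l
  simp only [Matrix.add_apply, Matrix.diagonal_apply, Matrix.one_apply, Matrix.single_apply]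
  by_cases hki : k = i
  · subst hki
    by_cases hlk : k = l
    · subst hlk
      simp [hij, hij.symm, hc]
    · by_cases hlj : j = l
      · subst hlj
        simp [hij, hij.symm, hc]
      · simp [hij, hij.symm, hlk, hlj]
  · by_cases hkj : k = j
    · subst hkj
      by_cases hlk : k = l
      · subst hlk
        simp [hij, hij.symm, hc]
      · by_cases hli : i = l
        · subst hli
          simp [hij, hij.symm, hc]
        · simp [hij, hij.symm, hlk, hli]
    · simp [hki, hkj, Ne.symm hki, Ne.symm hkj]

theorem transvection_induction (P : SpecialLinearGroup ι F → Prop) (h1 : P 1)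
    (ht : ∀ (i j : ι) (hij : i ≠ j) (c : F), P (tv hij c))
    (hmul : ∀ A B, P A → P B → P (A * B)) (A : SpecialLinearGroup ι F) : P A := by
  rcases subsingleton_or_nontrivial ι with h | h
  · rwa [Subsingleton.elim A 1]
  · refine SpecialLinearGroup.diagonal_transvection_induction' P A (fun i j hij c hc => ?_) ht hmul
    rw [diag2n_decompose hij hc]
    exact hmul _ _ (hmul _ _ (hmul _ _ (hmul _ _ (hmul _ _ (ht _ _ _ _) (ht _ _ _ _))
      (ht _ _ _ _)) (ht _ _ _ _)) (ht _ _ _ _)) (ht _ _ _ _)

theorem eq_top_of_transvection_mem (H : Subgroup (SpecialLinearGroup ι F))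
    (h : ∀ (i j : ι) (hij : i ≠ j) (c : F), tv hij c ∈ H) : H = ⊤ :=
  top_le_iff.1 fun A _ => transvection_induction (· ∈ H) H.one_mem h (fun _ _ => mul_mem) A

open scoped commutatorElement in
theorem transvection_commutator {i j k : ι} (hij : i ≠ j) (hjk : j ≠ k) (hik : i ≠ k) (c : F) :
    ⁅tv hij c, tv hjk (1 : F)⁆ = tv hik c := by
  rw [commutatorElement_def, SpecialLinearGroup.transvection_inv, SpecialLinearGroup.transvection_inv]
  apply SpecialLinearGroup.coeMonoidHom_injective
  simp only [map_mul, SpecialLinearGroup.coeMonoidHom_apply, tv, SpecialLinearGroup.transvection_coe]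
  simp only [mul_add, add_mul, one_mul, mul_one, Matrix.single_mul_single_same,
    Matrix.single_mul_single_of_ne, ne_eq, hij.symm, hjk.symm, hik.symm, not_false_eq_true,
    mul_zero, zero_mul, add_zero, zero_add]
  ext a b
  simp only [Matrix.add_apply, Matrix.one_apply, Matrix.single_apply]
  split_ifs <;> ring

theorem exists_third (hn : 3 ≤ Fintype.card ι) (i j : ι) : ∃ k, k ≠ i ∧ k ≠ j := by
  by_contra h
  push Not at h
  have hsub : (Finset.univ : Finset ι) ⊆ {i, j} := by
    intro k _
    simp only [Finset.mem_insert, Finset.mem_singleton]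
    by_cases hk : k = i
    · exact Or.inl hk
    · exact Or.inr (h k hk)
  have := Finset.card_le_card hsub
  have h2 : ({i, j} : Finset ι).card ≤ 2 := Finset.card_le_two
  rw [Finset.card_univ] at this
  omega

open scoped commutatorElement in
theorem tv_mem_commutatorSet (hn : 3 ≤ Fintype.card ι) {i k : ι} (hik : i ≠ k) (c : F) :
    tv hik c ∈ commutatorSet (SpecialLinearGroup ι F) := by
  obtain ⟨j, hji, hjk⟩ := exists_third hn i k
  exact ⟨_, _, transvection_commutator (Ne.symm hji) hjk hik c⟩

theorem SL_commutator_eq_top (hn : 3 ≤ Fintype.card ι) :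
    commutator (SpecialLinearGroup ι F) = ⊤ := by
  refine eq_top_of_transvection_mem _ fun i j hij c => ?_
  rw [commutator_eq_closure]
  exact Subgroup.subset_closure (tv_mem_commutatorSet hn hij c)

open scoped LinearAlgebra.Projectivization

theorem PSL_isSimpleGroup (hn : 3 ≤ Fintype.card ι) :
    IsSimpleGroup (ProjectiveSpecialLinearGroup ι F) := by
  have : Nonempty ι := Fintype.card_pos_iff.1 (by omega)
  have : Nontrivial ι := Fintype.one_lt_card_iff_nontrivial.1 (by omega)
  have hperf : commutator (ProjectiveSpecialLinearGroup ι F) = ⊤ := by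
    have : Group.IsPerfect (SpecialLinearGroup ι F) := ⟨SL_commutator_eq_top hn⟩
    have h2 : Group.IsPerfect (ProjectiveSpecialLinearGroup ι F) := inferInstance
    exact h2.commutator_eq_top
  let I : MulAction.IwasawaStructure (ProjectiveSpecialLinearGroup ι F) (ℙ F (ι → F)) :=
  { T := PSL.iwasawaT
    is_comm := fun p => by
      have hSL : IsMulCommutative (SpecialLinearGroup.lineStab (F := F) (ι := ι) p.submodule) := by
        rw [← Projectivization.mk_rep p, Projectivization.submodule_mk]
        exact SpecialLinearGroup.lineStab_isMulCommutative_of_span p.rep p.rep_nonzero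
      exact Subgroup.map_isMulCommutative _ _
    is_conj := fun g p => by
      obtain ⟨g_SL, rfl⟩ := QuotientGroup.mk_surjective g
      rw [Matrix.ProjectiveSpecialLinearGroup.smul_proj_mk]
      change Subgroup.map _ _ = _
      rw [PSL.smul_submodule, Matrix.SpecialLinearGroup.lineStab_smul, PSL.iwasawaT_map_conj]
    is_generator := by
      have h : (⨆ p : ℙ F (ι → F), SpecialLinearGroup.lineStab p.submodule) =
          (⊤ : Subgroup (SpecialLinearGroup ι F)) := by
        refine eq_top_of_transvection_mem _ fun i j hij c => ?_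
        have hne : (Pi.single i (1 : F) : ι → F) ≠ 0 := by simp
        refine Subgroup.mem_iSup_of_mem (Projectivization.mk F _ hne) ?_
        rw [Projectivization.submodule_mk]
        exact SL2Gen.transvection_mem_lineStab hij c
      calc (⨆ p : ℙ F (ι → F), PSL.iwasawaT p)
          = Subgroup.map (QuotientGroup.mk' _) (⨆ p : ℙ F (ι → F), SpecialLinearGroup.lineStab p.submodule) := by
            rw [Subgroup.map_iSup]
        _ = ⊤ := by rw [h]; exact Subgroup.map_top_of_surjective _ (QuotientGroup.mk'_surjective _) }
  exact MulAction.IwasawaStructure.isSimpleGroup hperf I inferInstance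

/-! ### Orders -/

theorem toGL_range :
    (SpecialLinearGroup.toGL : SpecialLinearGroup ι F →* GL ι F).range =
      (GeneralLinearGroup.det : GL ι F →* Fˣ).ker := by
  ext g
  constructor
  · rintro ⟨A, rfl⟩
    exact MonoidHom.mem_ker.2 (Units.ext A.2)
  · intro hg
    exact ⟨⟨g.1, by simpa [Units.ext_iff] using congrArg Units.val (MonoidHom.mem_ker.1 hg)⟩,
      Units.ext rfl⟩

theorem toGL_inj :
    Function.Injective (SpecialLinearGroup.toGL : SpecialLinearGroup ι F →* GL ι F) :=
  fun A B h => Subtype.ext (congrArg Units.val h)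

theorem det_GL_surjective [Nonempty ι] :
    Function.Surjective (GeneralLinearGroup.det : GL ι F →* Fˣ) :=
  fun r => GeneralLinearGroup.det_surjective (n := ι) r

/-- The determinant-kernel index formula, valid for infinite fields too. -/
theorem card_GL_eq [Nonempty ι] :
    Nat.card (GL ι F) = Nat.card Fˣ * Nat.card (SpecialLinearGroup ι F) := by
  rw [Subgroup.card_eq_card_quotient_mul_card_subgroup
      (GeneralLinearGroup.det : GL ι F →* Fˣ).ker,
    Nat.card_congr (QuotientGroup.quotientKerEquivOfSurjective _ det_GL_surjective).toEquiv]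
  congr 1
  rw [← toGL_range]
  exact (Nat.card_congr (MonoidHom.ofInjective toGL_inj).toEquiv).symm

theorem card_SL_mul [Fintype F] (n : ℕ) (hn : 1 ≤ n) :
    (Fintype.card F - 1) * Nat.card (SpecialLinearGroup (Fin n) F) =
      ∏ i : Fin n, (Fintype.card F ^ n - Fintype.card F ^ (i : ℕ)) := by
  have : Nonempty (Fin n) := ⟨⟨0, hn⟩⟩
  rw [← Matrix.card_GL_field, card_GL_eq, Nat.card_units, Nat.card_eq_fintype_card (α := F)]

theorem card_center_SL [Fintype F] [Nonempty ι] :
    Nat.card (Subgroup.center (SpecialLinearGroup ι F)) =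
      Nat.gcd (Fintype.card ι) (Fintype.card F - 1) := by
  rw [Nat.card_congr (SpecialLinearGroup.center_equiv_rootsOfUnity'
    (Classical.arbitrary ι)).toEquiv]
  have : rootsOfUnity (Fintype.card ι) F = (powMonoidHom (α := Fˣ) (Fintype.card ι)).ker := by
    ext x; simp [mem_rootsOfUnity]
  rw [this, IsCyclic.card_powMonoidHom_ker, Nat.card_units, Nat.card_eq_fintype_card (α := F),
    Nat.gcd_comm]

theorem card_PSL_mul [Fintype F] [Nonempty ι] :
    Nat.gcd (Fintype.card ι) (Fintype.card F - 1) * Nat.card (ProjectiveSpecialLinearGroup ι F) =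
      Nat.card (SpecialLinearGroup ι F) := by
  rw [← card_center_SL, mul_comm]
  exact (Subgroup.card_eq_card_quotient_mul_card_subgroup _).symm

theorem card_center_GL [Nonempty ι] :
    Nat.card (Subgroup.center (GL ι F)) = Nat.card Fˣ := by
  rw [GeneralLinearGroup.center_eq_range_scalar]
  refine (Nat.card_congr (MonoidHom.ofInjective ?_).toEquiv).symm
  intro u v h
  have := congrArg (fun g : GL ι F => (g : Matrix ι ι F) (Classical.arbitrary ι) (Classical.arbitrary ι)) h
  exact Units.ext (by simpa using this)

theorem card_PGL_eq [Finite F] :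
    Nat.card (ProjGenLinGroup ι F) = Nat.card (SpecialLinearGroup ι F) := by
  rcases isEmpty_or_nonempty ι with h | h
  · have : Subsingleton (GL ι F) := ⟨fun a b => Units.ext (Subsingleton.elim _ _)⟩
    have : Subsingleton (ProjGenLinGroup ι F) := ProjGenLinGroup.mk_surjective.subsingleton
    have : Subsingleton (SpecialLinearGroup ι F) := ⟨fun a b => Subtype.ext (Subsingleton.elim _ _)⟩
    rw [Nat.card_unique, Nat.card_unique]
  · have hpos : 0 < Nat.card Fˣ := Nat.card_pos
    refine Nat.eq_of_mul_eq_mul_right hpos ?_
    rw [mul_comm (Nat.card (SpecialLinearGroup ι F)), ← card_GL_eq (F := F) (ι := ι), ← card_center_GL (F := F) (ι := ι)]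
    exact (Subgroup.card_eq_card_quotient_mul_card_subgroup _).symm

end Cfsg.Agent.Classical
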